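import Mathlib
import Cfsg.Agent.H645.Idem

/-!
# Lifting representations of groups of order prime to the characteristic (helper750)

`exists_lift_rep` : `red : R →+* k` as in `H645.Idem.Sys` (e.g. the local ring of the algebraic integers at a maximal ideal);
a matrix representation over `k` of a finite group of order prime to the characteristic of `k` is the reduction of a matrix
representation over `R`.
-/

set_option autoImplicit false
set_option linter.unusedSectionVars false

namespace Cfsg.Agent.H750.RV

open Polynomial Cfsg.Agent.H645.Idem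

section lift

variable {R k : Type*} [CommRing R] [Field k] {red : R →+* k}

theorem red_matrix (hR : Sys red) (n : Type*) [Fintype n] [DecidableEq n] :
    Red red (red.mapMatrix : Matrix n n R →+* Matrix n n k) where
  surj := by
    intro M
    choose f hf using hR.surj
    exact ⟨M.map f, by ext i j; simp [hf]⟩
  smul r x hr := by ext i j; simp [hr]
  ker x hx := by
    rw [Matrix.matrix_eq_sum_single x]
    refine Submodule.sum_mem _ fun i _ => Submodule.sum_mem _ fun j _ => ?_
    have h1 : Matrix.single i j (x i j) = x i j • Matrix.single i j (1 : R) := by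
      rw [Matrix.smul_single, smul_eq_mul, mul_one]
    rw [h1]
    exact Submodule.smul_mem_smul (by rw [RingHom.mem_ker]; exact congrFun (congrFun hx i) j) trivial

variable {G : Type*} [Group G] {n : Type*}

/-- translation -/
def sh (g : G) (x : G × n) : G × n := (x.1 * g, x.2)

/-- the matrix of a translation -/
def T (S : Type*) [Zero S] [One S] [DecidableEq G] [DecidableEq n] (g : G) : Matrix (G × n) (G × n) S :=
  Matrix.of fun x y => if sh g x = y then 1 else 0

/-- block circulant matrices -/
def circ {S : Type*} (f : G → Matrix n n S) : Matrix (G × n) (G × n) S :=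
  Matrix.of fun x y => f (x.1 * y.1⁻¹) x.2 y.2

theorem commute_aeval {S A : Type*} [CommRing S] [Ring A] [Algebra S A] {x a : A} (h : x * a = a * x) (E : S[X]) :
    x * aeval a E = aeval a E * x := by
  induction E using Polynomial.induction_on' with
  | add p q hp hq => rw [map_add, mul_add, add_mul, hp, hq]
  | monomial m r =>
    have h1 : x * a ^ m = a ^ m * x := (Commute.pow_right h m)
    rw [aeval_monomial, ← mul_assoc, ← Algebra.commutes r x, mul_assoc, h1, mul_assoc]

variable [Fintype G] [DecidableEq G] [Fintype n] [DecidableEq n]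

theorem T_mul {S : Type*} [CommRing S] {m : Type*} (g : G) (M : Matrix (G × n) m S) :
    T S (n := n) g * M = M.submatrix (sh g) id := by
  ext x y
  rw [T, Matrix.mul_apply, Finset.sum_eq_single (sh g x)]
  · simp
  · intro z _ hz
    simp [Ne.symm hz]
  · intro h; exact absurd (Finset.mem_univ _) h

theorem mul_T {S : Type*} [CommRing S] {m : Type*} (g : G) (M : Matrix m (G × n) S) :
    M * T S (n := n) g = M.submatrix id (sh g⁻¹) := by
  ext x y
  rw [T, Matrix.mul_apply, Finset.sum_eq_single (sh g⁻¹ y)]
  · simp [sh]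
  · intro z _ hz
    have h1 : sh g z ≠ y := by
      rintro rfl
      exact hz (by simp [sh])
    simp [h1]
  · intro h; exact absurd (Finset.mem_univ _) h

theorem T_comm {S : Type*} [CommRing S] (g : G) (f : G → Matrix n n S) :
    T S g * circ f = circ f * T S g := by
  rw [T_mul, mul_T]
  ext x y
  simp [circ, sh, mul_assoc]

theorem T_one (S : Type*) [CommRing S] : T S (1 : G) = (1 : Matrix (G × n) (G × n) S) := by
  ext x y
  simp [T, sh, Matrix.one_apply]

theorem T_T (S : Type*) [CommRing S] (g h : G) : T S (n := n) g * T S h = T S (g * h) := by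
  rw [T_mul]
  ext x y
  simp only [T, sh, Matrix.submatrix_apply, Matrix.of_apply, id]
  refine if_congr ?_ rfl rfl
  rw [mul_assoc]

theorem map_T {S S' : Type*} [CommRing S] [CommRing S'] (f : S →+* S') (g : G) :
    (T S (n := n) g).map f = T S' g := by
  ext x y
  simp only [T, Matrix.map_apply, Matrix.of_apply]
  split_ifs <;> simp

omit [Fintype G] [DecidableEq G] in
/-- **Lifting of representations of groups of order prime to the characteristic.** -/
theorem exists_lift_rep [Finite G] (hR : Sys red) (hG : (Nat.card G : k) ≠ 0) (ρ : G →* Matrix n n k) :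
    ∃ A : G →* Matrix n n R, ∀ g, (A g).map red = ρ g := by
  classical
  have := Fintype.ofFinite G
  have hsurj := hR.surj
  choose c hc using hsurj
  let N : k := (Nat.card G : k)⁻¹
  have hN : (Fintype.card G : k) * N = 1 := by
    rw [← Nat.card_eq_fintype_card]
    exact mul_inv_cancel₀ hG
  let i : Matrix (G × n) n k := Matrix.of fun x b => ρ x.1 x.2 b
  let j : Matrix n (G × n) k := Matrix.of fun a y => N * ρ y.1⁻¹ a y.2
  have hji : ∀ g : G, j * (i.submatrix (sh g) id) = ρ g := by
    intro g
    ext a b
    rw [Matrix.mul_apply, Fintype.sum_prod_type]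
    have h1 : ∀ y : G, ∑ z : n, j a (y, z) * (i.submatrix (sh g) id) (y, z) b = N * ρ g a b := by
      intro y
      have h2 : ρ g = ρ y⁻¹ * ρ (y * g) := by rw [← map_mul, inv_mul_cancel_left]
      conv_rhs => rw [h2]
      rw [Matrix.mul_apply, Finset.mul_sum]
      refine Finset.sum_congr rfl fun z _ => ?_
      simp [i, j, sh, mul_assoc]
    rw [Finset.sum_congr rfl fun y _ => h1 y, Finset.sum_const, Finset.card_univ, nsmul_eq_mul, ← mul_assoc, hN,
      one_mul]
  have hji1 : j * i = 1 := by
    have h1 := hji 1
    rw [map_one] at h1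
    rw [← h1]
    congr 1
    ext x y
    simp [sh]
  have hij : i * j = circ fun g => N • ρ g := by
    ext x y
    rw [Matrix.mul_apply]
    simp only [i, j, circ, Matrix.of_apply, Matrix.smul_apply, smul_eq_mul, map_mul]
    rw [Matrix.mul_apply, Finset.mul_sum]
    refine Finset.sum_congr rfl fun z _ => ?_
    ring
  -- a lift of the idempotent which commutes with the translations
  let a : Matrix (G × n) (G × n) R := circ fun g => (N • ρ g).map c
  have hφ := red_matrix hR (G × n)
  have hφn := red_matrix hR n
  have ha : red.mapMatrix a = i * j := by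
    rw [hij]
    ext x y
    simp [a, circ, hc]
  obtain ⟨E, hE, hEa⟩ := exists_lift hR hφ a (by
    rw [ha, Matrix.mul_assoc, ← Matrix.mul_assoc j i j, hji1, Matrix.one_mul])
  have hPT : ∀ g : G, T R g * aeval a E = aeval a E * T R g := fun g =>
    commute_aeval (T_comm g _) E
  generalize aeval a E = P at hE hEa hPT
  rw [ha] at hEa
  let i₁ : Matrix (G × n) n R := P * i.map c
  let j₁ : Matrix n (G × n) R := j.map c * P
  have hic : (i.map c).map red = i := by
    ext x y
    simp [hc]
  have hjc : (j.map c).map red = j := by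
    ext x y
    simp [hc]
  have hEa' : P.map red = i * j := hEa
  have hi₁ : i₁.map red = i := by
    show (P * i.map c).map red = i
    rw [Matrix.map_mul, hEa', hic, Matrix.mul_assoc, hji1, Matrix.mul_one]
  have hj₁ : j₁.map red = j := by
    show (j.map c * P).map red = j
    rw [Matrix.map_mul, hEa', hjc, ← Matrix.mul_assoc, hji1, Matrix.one_mul]
  have hPi : P * i₁ = i₁ := by
    show P * (P * i.map c) = P * i.map c
    rw [← Matrix.mul_assoc, hE]
  have hjP : j₁ * P = j₁ := by
    show (j.map c * P) * P = j.map c * P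
    rw [Matrix.mul_assoc, hE]
  have hU : IsUnit (j₁ * i₁) := by
    refine isUnit_of_map hR hφn ?_
    have h1 : red.mapMatrix (j₁ * i₁) = 1 := by
      show (j₁ * i₁).map red = 1
      rw [Matrix.map_mul, hi₁, hj₁, hji1]
    rw [h1]
    exact isUnit_one
  obtain ⟨V, hV⟩ : ∃ V : Matrix n n R, V * (j₁ * i₁) = 1 := by
    obtain ⟨u, hu⟩ := hU
    exact ⟨((u⁻¹ : (Matrix n n R)ˣ) : Matrix n n R), by rw [← hu, Units.inv_mul]⟩
  have hVred : V.map red = 1 := by
    have h1 : (V * (j₁ * i₁)).map red = 1 := by rw [hV]; exact Matrix.map_one _ (map_zero _) (map_one _)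
    rw [Matrix.map_mul, Matrix.map_mul, hi₁, hj₁, hji1, Matrix.mul_one] at h1
    exact h1
  let j₂ : Matrix n (G × n) R := V * j₁
  have hj₂ : j₂.map red = j := by
    show (V * j₁).map red = j
    rw [Matrix.map_mul, hVred, hj₁, Matrix.one_mul]
  have hj₂P : j₂ * P = j₂ := by
    show (V * j₁) * P = V * j₁
    rw [Matrix.mul_assoc, hjP]
  have hj₂i : j₂ * i₁ = 1 := by
    show (V * j₁) * i₁ = 1
    rw [Matrix.mul_assoc, hV]
  have hPQ : P = i₁ * j₂ := by
    rw [← sub_eq_zero]
    refine eq_zero_of_map hR hφ ?_ ?_
    · have h1 : P * (i₁ * j₂) = i₁ * j₂ := by rw [← Matrix.mul_assoc, hPi]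
      have h2 : (i₁ * j₂) * P = i₁ * j₂ := by rw [Matrix.mul_assoc, hj₂P]
      have h3 : (i₁ * j₂) * (i₁ * j₂) = i₁ * j₂ := by
        rw [Matrix.mul_assoc, ← Matrix.mul_assoc j₂ i₁ j₂, hj₂i, Matrix.one_mul]
      rw [sub_mul, mul_sub, mul_sub, hE, h1, h2, h3]
      abel
    · show (P - i₁ * j₂).map red = 0
      rw [Matrix.map_sub _ (map_sub red), Matrix.map_mul, hi₁, hj₂, hEa', sub_self]
  refine ⟨{ toFun := fun g => j₂ * (T R (n := n) g * i₁), map_one' := ?_, map_mul' := ?_ }, ?_⟩
  · rw [T_one, Matrix.one_mul, hj₂i]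
  · intro g h
    symm
    calc j₂ * (T R (n := n) g * i₁) * (j₂ * (T R (n := n) h * i₁)) =
          j₂ * (T R (n := n) g * (i₁ * j₂) * (T R (n := n) h * i₁)) := by
          simp only [Matrix.mul_assoc]
      _ = j₂ * (T R (n := n) g * P * (T R (n := n) h * i₁)) := by rw [← hPQ]
      _ = j₂ * (T R (n := n) g * (P * T R (n := n) h) * i₁) := by simp only [Matrix.mul_assoc]
      _ = j₂ * (T R (n := n) g * T R (n := n) h * (P * i₁)) := by
          rw [← hPT h]
          simp only [Matrix.mul_assoc]
      _ = j₂ * (T R (n := n) (g * h) * i₁) := by rw [hPi, T_T]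
  · intro g
    show (j₂ * (T R (n := n) g * i₁)).map red = ρ g
    have h1 : (j₂ * (T R (n := n) g * i₁)).map red = j₂.map red * (T R (n := n) g * i₁).map red := Matrix.map_mul
    have h2 : (T R (n := n) g * i₁).map red = (T R (n := n) g).map red * i₁.map red := Matrix.map_mul
    rw [h1, h2, hj₂, hi₁, map_T, T_mul, hji]

end lift

end Cfsg.Agent.H750.RV
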