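import Mathlib
import Cfsg.Agent.H750.RV.Lift
import Cfsg.Agent.H645.IdemSys
import Cfsg.Agent.Blocks.CyclicAssembly
import Cfsg.Agent.Blocks.ExistsModular

/-!
# Lifting representations of `p'`-groups over finite fields to the complex numbers (helper750)

`exists_lift_data` : a matrix representation `ρ` over a finite field of a finite group of order prime to the characteristic
is the reduction of a representation over a subring of `ℂ`.

`Cfsg.Agent.H750.RV.Lifts` packages the data.
-/

set_option autoImplicit false

namespace Cfsg.Agent.H750.RV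

open Cfsg Polynomial Cfsg.Agent.H645.Idem Cfsg.Agent.Blocks.Local

/-- Lifting data for a finite field. -/
structure Lifts (K : Type*) [Field K] where
  R : Type
  [cR : CommRing R]
  k : Type
  [fk : Field k]
  red : R →+* k
  sys : Sys red
  ι : K →+* k
  j : R →+* ℂ
  inj : Function.Injective j

attribute [instance] Lifts.cR Lifts.fk

theorem exists_lifts (K : Type*) [Field K] [Finite K] : Nonempty (Lifts K) := by
  classical
  obtain ⟨p, hp⟩ := CharP.exists K
  have hpp : p.Prime := (CharP.char_is_prime_or_zero K p).resolve_right (by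
    rintro rfl
    have h1 : CharZero K := CharP.charP_to_charZero K
    exact not_finite K)
  have := Fact.mk hpp
  obtain ⟨M, hM⟩ := Cfsg.Agent.Blocks.ExistsModular.exists_isPModular hpp
  have hmax : M.IsMaximal := isMaximal_of_isPModular hM
  have hprime : M.IsPrime := hmax.isPrime
  have hcl : IsAlgClosed (ResField M) := Cfsg.Agent.Blocks.CyclicAssembly.isAlgClosed_resField
  have hchar : CharP (ResField M) p := charP_resField hM
  let _ : Algebra (ZMod p) (ResField M) := ZMod.algebra _ p
  let _ : Algebra (ZMod p) K := ZMod.algebra _ p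
  have : Module.Finite (ZMod p) K := Module.Finite.of_finite
  let ι : K →ₐ[ZMod p] ResField M := IsAlgClosed.lift
  exact ⟨@Lifts.mk K _ (localRing M) _ (ResField M) _ (red M) Cfsg.Agent.H645.IdemSys.sys
    ι.toRingHom (localRing M).subtype Subtype.val_injective⟩

variable {K : Type*} [Field K] {G : Type*} [Group G] {n : Type*} [Fintype n] [DecidableEq n]

/-- **Lifting.** -/
theorem Lifts.exists_rep [Finite G] (L : Lifts K) (hG : (Nat.card G : K) ≠ 0) (ρ : G →* Matrix n n K) :
    ∃ A : G →* Matrix n n L.R, ∀ g, (A g).map L.red = (ρ g).map L.ι := by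
  have hG' : (Nat.card G : L.k) ≠ 0 := by
    rw [← map_natCast L.ι]
    exact (map_ne_zero L.ι).2 hG
  exact exists_lift_rep L.sys hG' ((L.ι.mapMatrix : Matrix n n K →+* Matrix n n L.k).toMonoidHom.comp ρ)

end Cfsg.Agent.H750.RV
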