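import Mathlib

/-!
# THEOREM 60 of TEAM RV: supports of small groups generated by elements with short arcs (helper750)

`sixty_unitary` : `U : G →* Matrix n n ℂ` unitary, `e` a self-adjoint idempotent, `Xc` a set of elements `c` of `G` with
`U c * e = e` and `U c + U c⁻¹ = 1 + e` (eigenvalues `exp (± π i / 3)` off `e`). If every conjugate `f` of `e` which commutes with
`Xc` satisfies `f (1 - e) = 0` or `f (1 - e) = 1 - e`, then every conjugate `f` of `e` satisfies `f = e` or
`(1 - e) (1 - f) = 0`.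
-/

set_option autoImplicit false
set_option linter.unusedSectionVars false

namespace Cfsg.Agent.H750.RV

open Matrix

section sixty

variable {n : Type*} [Fintype n] [DecidableEq n]

/-- the real inner product of matrices -/
def ip (u v : Matrix n n ℂ) : ℝ := (trace (uᴴ * v)).re

/-- the square of the Hilbert-Schmidt norm -/
def ns (u : Matrix n n ℂ) : ℝ := ip u u

theorem ip_eq (u v : Matrix n n ℂ) : ip u v = ∑ j, ∑ i, (star (u i j) * v i j).re := by
  simp only [ip, trace, diag_apply, mul_apply, conjTranspose_apply, Complex.re_sum]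

theorem ns_eq (u : Matrix n n ℂ) : ns u = ∑ j, ∑ i, ‖u i j‖ ^ 2 := by
  rw [ns, ip_eq]
  refine Finset.sum_congr rfl fun j _ => Finset.sum_congr rfl fun i _ => ?_
  rw [Complex.star_def, ← Complex.normSq_eq_conj_mul_self, Complex.ofReal_re, Complex.normSq_eq_norm_sq]

theorem ns_nonneg (u : Matrix n n ℂ) : 0 ≤ ns u := by
  rw [ns_eq]
  positivity

theorem eq_zero_of_ns {u : Matrix n n ℂ} (h : ns u ≤ 0) : u = 0 := by
  have h0 : ns u = 0 := le_antisymm h (ns_nonneg u)
  rw [ns_eq] at h0
  ext i j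
  have h1 := (Finset.sum_eq_zero_iff_of_nonneg (fun j _ => by positivity)).1 h0 j (Finset.mem_univ _)
  have h2 := (Finset.sum_eq_zero_iff_of_nonneg (fun i _ => by positivity)).1 h1 i (Finset.mem_univ _)
  simpa using h2

theorem ip_comm (u v : Matrix n n ℂ) : ip u v = ip v u := by
  rw [ip, ip, ← Complex.conj_re, ← Complex.star_def, ← trace_conjTranspose, conjTranspose_mul, conjTranspose_conjTranspose]

theorem ip_add (u v w : Matrix n n ℂ) : ip u (v + w) = ip u v + ip u w := by
  rw [ip, ip, ip, mul_add, trace_add, Complex.add_re]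

theorem ip_sub (u v w : Matrix n n ℂ) : ip u (v - w) = ip u v - ip u w := by
  rw [ip, ip, ip, mul_sub, trace_sub, Complex.sub_re]

theorem ns_sub (u v : Matrix n n ℂ) : ns (u - v) = ns u + ns v - 2 * ip u v := by
  rw [ns, ip_sub, ip_comm (u - v) u, ip_comm (u - v) v, ip_sub, ip_sub, ip_comm v u, ns, ns]
  ring

/-- Cauchy-Schwarz -/
theorem ip_sq_le (u v : Matrix n n ℂ) : ip u v ^ 2 ≤ ns u * ns v := by
  have h1 : ∀ t : ℝ, 0 ≤ ns u - 2 * t * ip u v + t ^ 2 * ns v := by
    intro t
    have h2 : ns (u - (t : ℂ) • v) = ns u - 2 * t * ip u v + t ^ 2 * ns v := by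
      rw [ns_sub]
      have h3 : ns ((t : ℂ) • v) = t ^ 2 * ns v := by
        rw [ns, ns, ip, ip, conjTranspose_smul, smul_mul_smul_comm, trace_smul, smul_eq_mul,
          Complex.star_def, Complex.conj_ofReal, ← Complex.ofReal_mul, Complex.re_ofReal_mul, sq]
      have h4 : ip u ((t : ℂ) • v) = t * ip u v := by
        rw [ip, ip, Matrix.mul_smul, trace_smul, smul_eq_mul, Complex.re_ofReal_mul]
      rw [h3, h4]
      ring
    rw [← h2]
    exact ns_nonneg _
  by_cases hv : ns v = 0
  · have hv0 : v = 0 := eq_zero_of_ns hv.le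
    have h2 : ip u (0 : Matrix n n ℂ) = 0 := by rw [ip, Matrix.mul_zero, trace_zero, Complex.zero_re]
    have h3 : ns (0 : Matrix n n ℂ) = 0 := by rw [ns, ip, Matrix.mul_zero, trace_zero, Complex.zero_re]
    rw [hv0, h2, h3]
    norm_num
  · have hv' : 0 < ns v := lt_of_le_of_ne (ns_nonneg v) (Ne.symm hv)
    have h2 := h1 (ip u v / ns v)
    have h3 : ns u - 2 * (ip u v / ns v) * ip u v + (ip u v / ns v) ^ 2 * ns v = ns u - ip u v ^ 2 / ns v := by
      field_simp
      ring
    rw [h3] at h2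
    have h4 : ip u v ^ 2 / ns v ≤ ns u := by linarith
    rwa [div_le_iff₀ hv'] at h4

variable {G : Type*} [Group G] (U : G →* Matrix n n ℂ) (hU : ∀ g, (U g)ᴴ = U g⁻¹)

include hU in
theorem ns_mul_left (g : G) (u : Matrix n n ℂ) : ns (U g * u) = ns u := by
  rw [ns, ns, ip, ip, conjTranspose_mul, hU, Matrix.mul_assoc, ← Matrix.mul_assoc (U g⁻¹), ← map_mul,
    inv_mul_cancel, map_one, Matrix.one_mul]

include hU in
theorem ns_mul_right (g : G) (u : Matrix n n ℂ) : ns (u * U g) = ns u := by
  rw [ns, ns, ip, ip, conjTranspose_mul, hU, Matrix.mul_assoc, Matrix.trace_mul_comm, Matrix.mul_assoc,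
    Matrix.mul_assoc, ← map_mul, mul_inv_cancel, map_one, Matrix.mul_one]

theorem ns_split {e : Matrix n n ℂ} (he : e * e = e) (heH : eᴴ = e) (u : Matrix n n ℂ) :
    ns u = ns (e * u) + ns ((1 - e) * u) := by
  have h1 : uᴴ * u = (e * u)ᴴ * (e * u) + ((1 - e) * u)ᴴ * ((1 - e) * u) := by
    simp only [conjTranspose_mul, conjTranspose_sub, conjTranspose_one, heH]
    have h2 : uᴴ * e * (e * u) = uᴴ * e * u := by
      rw [Matrix.mul_assoc, ← Matrix.mul_assoc e e u, he, Matrix.mul_assoc]
    have h3 : uᴴ * (1 - e) * ((1 - e) * u) = uᴴ * u - uᴴ * e * u := by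
      rw [Matrix.mul_assoc, ← Matrix.mul_assoc (1 - e) (1 - e) u]
      have h4 : (1 - e) * (1 - e) = 1 - e := by
        rw [sub_mul, one_mul, mul_sub, mul_one, he, sub_self, sub_zero]
      rw [h4, sub_mul, Matrix.one_mul, mul_sub, Matrix.mul_assoc]
    rw [h2, h3]
    abel
  rw [ns, ns, ns, ip, ip, ip, h1, trace_add, Complex.add_re]

theorem ns_split_right {e : Matrix n n ℂ} (he : e * e = e) (heH : eᴴ = e) (u : Matrix n n ℂ) :
    ns u = ns (u * e) + ns (u * (1 - e)) := by
  have hct : ∀ w : Matrix n n ℂ, ns w = ns wᴴ := by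
    intro w
    rw [ns, ns, ip, ip, conjTranspose_conjTranspose, trace_mul_comm]
  rw [hct u, ns_split he heH uᴴ, hct (u * e), hct (u * (1 - e))]
  simp only [conjTranspose_mul, conjTranspose_sub, conjTranspose_one, heH]

/-- a self-adjoint idempotent -/
theorem ns_idem {e : Matrix n n ℂ} (he : e * e = e) (heH : eᴴ = e) : ns e = (trace e).re := by
  rw [ns, ip, heH, he]

include hU in
/-- **THEOREM 60**, unitary matrices. -/
theorem sixty_unitary [Finite G] {e : Matrix n n ℂ} (he : e * e = e) (heH : eᴴ = e) (Xc : Set G)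
    (h0 : ∀ c ∈ Xc, U c * e = e) (h1 : ∀ c ∈ Xc, U c + U c⁻¹ = 1 + e)
    (h4 : ∀ g : G, (∀ c ∈ Xc, U c * (U g * e * U g⁻¹) = U g * e * U g⁻¹ * U c) →
      U g * e * U g⁻¹ * (1 - e) = 0 ∨ U g * e * U g⁻¹ * (1 - e) = 1 - e) (g : G) :
    U g * e * U g⁻¹ = e ∨ (1 - e) * (1 - U g * e * U g⁻¹) = 0 := by
  classical
  -- conjugates of `e`
  have hUU : ∀ g : G, U g⁻¹ * U g = 1 := fun g => by rw [← map_mul, inv_mul_cancel, map_one]
  have hUU' : ∀ g : G, U g * U g⁻¹ = 1 := fun g => by rw [← map_mul, mul_inv_cancel, map_one]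
  have hf2 : ∀ g : G, (U g * e * U g⁻¹) * (U g * e * U g⁻¹) = U g * e * U g⁻¹ := by
    intro g
    calc (U g * e * U g⁻¹) * (U g * e * U g⁻¹) = U g * e * (U g⁻¹ * U g) * e * U g⁻¹ := by
          simp only [Matrix.mul_assoc]
      _ = U g * e * U g⁻¹ := by rw [hUU, Matrix.mul_one, Matrix.mul_assoc (U g) e e, he]
  have hfH : ∀ g : G, (U g * e * U g⁻¹)ᴴ = U g * e * U g⁻¹ := by
    intro g
    rw [conjTranspose_mul, conjTranspose_mul, hU, hU, heH, inv_inv, Matrix.mul_assoc]
  have h1e : (1 - e) * (1 - e) = 1 - e := by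
    rw [sub_mul, one_mul, mul_sub, mul_one, he, sub_self, sub_zero]
  have h1eH : (1 - e)ᴴ = 1 - e := by rw [conjTranspose_sub, conjTranspose_one, heH]
  have hftr : ∀ g : G, trace (U g * e * U g⁻¹) = trace e := by
    intro g
    rw [trace_mul_comm, ← Matrix.mul_assoc, hUU, Matrix.one_mul]
  set k := ns e with hk
  have hktr : k = (trace e).re := ns_idem he heH
  let t : G → ℝ := fun g => ns (e * U g * e)
  have ht : ∀ g, t g = k - ns ((1 - e) * (U g * e)) := by
    intro g
    have h2 := ns_split he heH (U g * e)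
    rw [ns_mul_left U hU] at h2
    show ns (e * U g * e) = _
    rw [Matrix.mul_assoc]
    linarith
  have ht' : ∀ g, t g = (trace (U g * e * U g⁻¹ * e)).re := by
    intro g
    show (trace ((e * U g * e)ᴴ * (e * U g * e))).re = _
    congr 1
    rw [conjTranspose_mul, conjTranspose_mul, hU, heH]
    calc trace (e * (U g⁻¹ * e) * (e * U g * e)) = trace ((e * (U g⁻¹ * e) * (e * U g)) * e) := by
          simp only [Matrix.mul_assoc]
      _ = trace (e * (e * (U g⁻¹ * e) * (e * U g))) := trace_mul_comm _ _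
      _ = trace (e * e * U g⁻¹ * (e * e) * U g) := by simp only [Matrix.mul_assoc]
      _ = trace (e * U g⁻¹ * e * U g) := by rw [he]
      _ = trace (U g * (e * U g⁻¹ * e)) := trace_mul_comm _ _
      _ = trace (U g * e * U g⁻¹ * e) := by simp only [Matrix.mul_assoc]
  have hle : ∀ g, t g ≤ k := fun g => by rw [ht]; linarith [ns_nonneg ((1 - e) * (U g * e))]
  have heq : ∀ g, k ≤ t g → U g * e * U g⁻¹ = e := by
    intro g hg
    have h2 : (1 - e) * (U g * e) = 0 := eq_zero_of_ns (by rw [ht g] at hg; linarith)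
    have h3 : e * U g * (1 - e) = 0 := by
      refine eq_zero_of_ns ?_
      have h4 := ns_split_right he heH (e * U g)
      rw [ns_mul_right U hU] at h4
      have h5 : k ≤ ns (e * U g * e) := hg
      linarith
    have h5 : U g * e = e * (U g * e) := by
      rw [sub_mul, Matrix.one_mul, sub_eq_zero] at h2
      exact h2
    have h6 : e * U g = e * U g * e := by
      rw [mul_sub, Matrix.mul_one, sub_eq_zero] at h3
      exact h3
    have h7 : U g * e = e * U g := by rw [h5, h6, Matrix.mul_assoc]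
    rw [h7, Matrix.mul_assoc, hUU', Matrix.mul_one]
  by_cases hne : ∃ B : G, U B * e * U B⁻¹ ≠ e
  swap
  · push Not at hne
    exact Or.inl (hne g)
  obtain ⟨B, hB, hmax⟩ : ∃ B : G, U B * e * U B⁻¹ ≠ e ∧ ∀ B' : G, U B' * e * U B'⁻¹ ≠ e → t B' ≤ t B := by
    obtain ⟨B, hB, hmax⟩ := Set.exists_max_image {B : G | U B * e * U B⁻¹ ≠ e} t (Set.toFinite _) hne
    exact ⟨B, hB, hmax⟩
  have htB : t B < k := lt_of_le_of_ne (hle B) fun h => hB (heq B h.ge)
  have hk0 : 0 < k := lt_of_le_of_lt (ns_nonneg _) htB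
  -- `Xc` commutes with the conjugate
  have hcomm : ∀ c ∈ Xc, U c * (U B * e * U B⁻¹) = U B * e * U B⁻¹ * U c := by
    intro c hc
    set C : G := c⁻¹ * B⁻¹ * c * B with hC
    have hce := h0 c hc
    have hns1 : ns (e - U C * e) = k - t B := by
      rw [← ns_mul_left U hU (B * c) (e - U C * e)]
      have h2 : U (B * c) * (e - U C * e) = (1 - U c) * (U B * e) := by
        rw [mul_sub, ← Matrix.mul_assoc (U (B * c)) (U C) e, ← map_mul,
          show B * c * C = c * B by rw [hC]; group, map_mul, map_mul, Matrix.mul_assoc (U B), hce, sub_mul,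
          Matrix.one_mul, Matrix.mul_assoc]
      rw [h2, ht B]
      have h3 : ns ((1 - U c) * (U B * e)) = ns ((1 - e) * (U B * e)) := by
        generalize U B * e = w
        have h5 := h1 c hc
        have h6 : U c⁻¹ = 1 + e - U c := by rw [← h5]; abel
        have h7 : (1 - U c)ᴴ * (1 - U c) = (1 - e)ᴴ * (1 - e) := by
          rw [h1eH, h1e, conjTranspose_sub, conjTranspose_one, hU, sub_mul, Matrix.one_mul, mul_sub, Matrix.mul_one,
            hUU, h6]
          abel
        rw [ns, ns, ip, ip]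
        congr 2
        rw [conjTranspose_mul, conjTranspose_mul]
        calc wᴴ * (1 - U c)ᴴ * ((1 - U c) * w) = wᴴ * ((1 - U c)ᴴ * (1 - U c)) * w := by
              simp only [Matrix.mul_assoc]
          _ = wᴴ * (1 - e)ᴴ * ((1 - e) * w) := by
              rw [h7]
              simp only [Matrix.mul_assoc]
      rw [h3]
      ring
    have hns2 : ns (e - U C * e) = 2 * k - 2 * ip e (U C * e) := by
      rw [ns_sub, ns_mul_left U hU]
      ring
    have hip : ip e (U C * e) = ip e (e * U C * e) := by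
      rw [ip, ip]
      congr 2
      rw [heH, Matrix.mul_assoc e (U C) e, ← Matrix.mul_assoc e e, he]
    have hcs := ip_sq_le e (e * U C * e)
    have h2 : ip e (e * U C * e) = (k + t B) / 2 := by
      rw [← hip]
      linarith
    have h3 : (k + t B) ^ 2 / 4 ≤ k * t C := by
      have h4 : ip e (e * U C * e) ^ 2 = (k + t B) ^ 2 / 4 := by rw [h2]; ring
      rw [h4] at hcs
      exact hcs
    have h5 : t B < t C := by
      by_contra hcon
      push Not at hcon
      nlinarith [sq_nonneg (k - t B), mul_pos hk0 (sub_pos.2 htB), mul_le_mul_of_nonneg_left hcon hk0.le,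
        mul_pos (sub_pos.2 htB) (sub_pos.2 htB)]
    have h6 : U C * e * U C⁻¹ = e := by
      by_contra hcon
      exact absurd (hmax C hcon) (not_le.2 h5)
    have hec : e * U c = e := by
      have h7 := congrArg conjTranspose (hce)
      rw [conjTranspose_mul, hU, heH] at h7
      calc e * U c = e * U c⁻¹ * U c := by rw [h7]
        _ = e := by rw [Matrix.mul_assoc, hUU, Matrix.mul_one]
    have h8 : U C * e = e * U C := by
      calc U C * e = U C * e * (U C⁻¹ * U C) := by rw [hUU, Matrix.mul_one]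
        _ = U C * e * U C⁻¹ * U C := by simp only [Matrix.mul_assoc]
        _ = e * U C := by rw [h6]
    -- `c B e = B c C e = B c e C = B e C = B e c⁻¹ B⁻¹ c B`
    have h9 : U c * U B * e = U B * e * (U B⁻¹ * U c * U B) := by
      calc U c * U B * e = U (B * c) * (U C * e) := by
            rw [← Matrix.mul_assoc, ← map_mul, ← map_mul, show B * c * C = c * B by rw [hC]; group]
        _ = U B * (U c * e) * U C := by rw [h8, map_mul]; simp only [Matrix.mul_assoc]
        _ = U B * (e * U c⁻¹) * (U B⁻¹ * U c * U B) := by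
            rw [hce, hC, map_mul, map_mul, map_mul]
            simp only [Matrix.mul_assoc]
        _ = U B * e * (U B⁻¹ * U c * U B) := by
            have h7 := congrArg conjTranspose (hce)
            rw [conjTranspose_mul, hU, heH] at h7
            rw [h7]
    calc U c * (U B * e * U B⁻¹) = U c * U B * e * U B⁻¹ := by simp only [Matrix.mul_assoc]
      _ = U B * e * (U B⁻¹ * U c * U B) * U B⁻¹ := by rw [h9]
      _ = U B * e * U B⁻¹ * U c * (U B * U B⁻¹) := by simp only [Matrix.mul_assoc]
      _ = U B * e * U B⁻¹ * U c := by rw [hUU', Matrix.mul_one]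
  -- the dichotomy for the maximal pair
  have hB2 : U B * e * U B⁻¹ * (1 - e) = 1 - e := by
    refine (h4 B hcomm).resolve_left fun hz => hB ?_
    have h2 : U B * e * U B⁻¹ = U B * e * U B⁻¹ * e := by
      rw [mul_sub, Matrix.mul_one, sub_eq_zero] at hz
      exact hz
    refine heq B ?_
    rw [ht' B, ← h2, hftr, hktr]
  have htB' : t B = k - (trace (1 - e)).re := by
    rw [ht' B]
    have h2 : U B * e * U B⁻¹ * e = U B * e * U B⁻¹ - (1 - e) := by
      rw [← hB2, mul_sub, Matrix.mul_one]
      abel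
    rw [h2, trace_sub, hftr, Complex.sub_re, hktr]
  by_cases hg : U g * e * U g⁻¹ = e
  · exact Or.inl hg
  right
  have h2 := hmax g hg
  have h3 : ns ((1 - e) * (1 - U g * e * U g⁻¹)) = (trace (1 - e)).re - (trace (U g * e * U g⁻¹)).re + t g := by
    rw [ns, ip, ht' g, ← Complex.sub_re, ← Complex.add_re]
    congr 1
    have h1f : (1 - U g * e * U g⁻¹) * (1 - U g * e * U g⁻¹) = 1 - U g * e * U g⁻¹ := by
      rw [sub_mul, one_mul, mul_sub, mul_one, hf2, sub_self, sub_zero]
    have h1fH : (1 - U g * e * U g⁻¹)ᴴ = 1 - U g * e * U g⁻¹ := by rw [conjTranspose_sub, conjTranspose_one, hfH]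
    rw [conjTranspose_mul, h1eH, h1fH]
    generalize U g * e * U g⁻¹ = f at h1f
    calc trace ((1 - f) * (1 - e) * ((1 - e) * (1 - f))) = trace ((1 - f) * ((1 - e) * (1 - e)) * (1 - f)) := by
          simp only [Matrix.mul_assoc]
      _ = trace ((1 - f) * ((1 - f) * (1 - e))) := by rw [h1e, trace_mul_comm]
      _ = trace ((1 - f) * (1 - e)) := by rw [← Matrix.mul_assoc, h1f]
      _ = trace (1 - e) - trace f + trace (f * e) := by
          rw [sub_mul, Matrix.one_mul, mul_sub, Matrix.mul_one, trace_sub, trace_sub f]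
          ring
  refine eq_zero_of_ns ?_
  rw [h3, hftr]
  linarith

end sixty

end Cfsg.Agent.H750.RV
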