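import Mathlib
import Cfsg.Agent.H750.RV.Sixty
import Cfsg.Agent.H750.RV.LiftC

/-!
# THEOREM 60 for groups of order prime to the characteristic (helper750)

* `av ρ Y c` : `c • ∑ y ∈ Y, ρ y`, the projection on the fixed space of `Y` if `c = |Y|⁻¹`;
* `exists_unitary` : complex representations of finite groups are unitary in a suitable basis;
* `sixty_mat` : THEOREM 60 for matrix representations over a finite field `K` with `(Nat.card G : K) ≠ 0`.
-/

set_option autoImplicit false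
set_option linter.unusedSectionVars false

namespace Cfsg.Agent.H750.RV

open Matrix Cfsg.Agent.H645.Idem

section av

variable {S : Type*} [CommRing S] {G : Type*} [Group G] [Fintype G] {n : Type*} [Fintype n] [DecidableEq n]

open Classical in
/-- the averaging operator over `Y` -/
noncomputable def av (ρ : G →* Matrix n n S) (Y : Subgroup G) (c : S) : Matrix n n S :=
  c • ∑ y ∈ Finset.univ.filter (· ∈ Y), ρ y

variable (ρ : G →* Matrix n n S) {Y : Subgroup G} (c : S)

theorem mul_av {y : G} (hy : y ∈ Y) : ρ y * av ρ Y c = av ρ Y c := by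
  classical
  rw [av, Matrix.mul_smul, Finset.mul_sum]
  congr 1
  refine Finset.sum_equiv (Equiv.mulLeft y) (fun z => ?_) fun z _ => ?_
  · simp [Subgroup.mul_mem_cancel_left Y hy]
  · rw [Equiv.coe_mulLeft, map_mul]

theorem av_mul {y : G} (hy : y ∈ Y) : av ρ Y c * ρ y = av ρ Y c := by
  classical
  rw [av, Matrix.smul_mul, Finset.sum_mul]
  congr 1
  refine Finset.sum_equiv (Equiv.mulRight y) (fun z => ?_) fun z _ => ?_
  · simp [Subgroup.mul_mem_cancel_right Y hy]
  · rw [Equiv.coe_mulRight, map_mul]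

theorem card_filter (Y : Subgroup G) [DecidablePred (· ∈ Y)] : (Finset.univ.filter (· ∈ Y)).card = Nat.card Y := by
  rw [Nat.card_eq_fintype_card, Fintype.card_subtype]

/-- a matrix fixed by `Y` from the left -/
theorem av_mul_of {M : Matrix n n S} (hc : c * (Nat.card Y : S) = 1) (hM : ∀ y ∈ Y, ρ y * M = M) : av ρ Y c * M = M := by
  classical
  rw [av, Matrix.smul_mul, Finset.sum_mul, Finset.sum_congr rfl fun y hy => hM y (Finset.mem_filter.1 hy).2,
    Finset.sum_const, card_filter, ← Nat.cast_smul_eq_nsmul S, smul_smul, hc, one_smul]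

theorem av_idem (hc : c * (Nat.card Y : S) = 1) : av ρ Y c * av ρ Y c = av ρ Y c :=
  av_mul_of ρ c hc fun _ hy => mul_av ρ c hy

theorem commute_av {M : Matrix n n S} (hM : ∀ y ∈ Y, ρ y * M = M * ρ y) : av ρ Y c * M = M * av ρ Y c := by
  classical
  rw [av, Matrix.smul_mul, Finset.sum_mul, Matrix.mul_smul, Finset.mul_sum]
  congr 1
  exact Finset.sum_congr rfl fun y hy => hM y (Finset.mem_filter.1 hy).2

theorem map_av {S' : Type*} [CommRing S'] (Φ : Matrix n n S →+* Matrix n n S') (f : S → S') (ρ' : G →* Matrix n n S')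
    (hΦ : ∀ (s : S) (M : Matrix n n S), Φ (s • M) = f s • Φ M) (h : ∀ g, Φ (ρ g) = ρ' g) :
    Φ (av ρ Y c) = av ρ' Y (f c) := by
  classical
  rw [av, av, hΦ, map_sum]
  congr 1
  exact Finset.sum_congr rfl fun y _ => h y

end av

section unitary

open scoped ComplexOrder MatrixOrder

variable {n : Type*} [Fintype n] [DecidableEq n] {G : Type*} [Group G]

/-- Complex representations of finite groups are unitary in a suitable basis. -/
theorem exists_unitary [Finite G] (σ : G →* Matrix n n ℂ) : ∃ B B' : Matrix n n ℂ, B * B' = 1 ∧ B' * B = 1 ∧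
    ∀ g, (B * σ g * B')ᴴ = B * σ g⁻¹ * B' := by
  classical
  have := Fintype.ofFinite G
  let H : Matrix n n ℂ := ∑ g : G, (σ g)ᴴ * σ g
  have hH : ∀ g, (σ g)ᴴ * H * σ g = H := by
    intro g
    show (σ g)ᴴ * (∑ x : G, (σ x)ᴴ * σ x) * σ g = ∑ x : G, (σ x)ᴴ * σ x
    rw [Finset.mul_sum, Finset.sum_mul]
    refine Fintype.sum_equiv (Equiv.mulRight g) _ _ fun x => ?_
    rw [Equiv.coe_mulRight, map_mul, conjTranspose_mul]
    simp only [Matrix.mul_assoc]
  have hpd : H.PosDef := by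
    have h1 : H = 1 + ∑ g ∈ Finset.univ.erase (1 : G), (σ g)ᴴ * σ g := by
      show ∑ g : G, (σ g)ᴴ * σ g = _
      rw [← Finset.add_sum_erase _ _ (Finset.mem_univ (1 : G)), map_one, conjTranspose_one, Matrix.one_mul]
    rw [h1]
    refine Matrix.PosDef.add_posSemidef Matrix.PosDef.one ?_
    refine Matrix.posSemidef_sum _ fun g _ => ?_
    exact Matrix.posSemidef_conjTranspose_mul_self _
  obtain ⟨B, hB⟩ : ∃ B : Matrix n n ℂ, H = Bᴴ * B :=
    CStarAlgebra.nonneg_iff_eq_star_mul_self.mp hpd.posSemidef.nonneg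
  have hdet : IsUnit B.det := by
    have h1 : H.det ≠ 0 := hpd.det_pos.ne'
    rw [hB, det_mul] at h1
    exact (right_ne_zero_of_mul h1).isUnit
  have hBB : B * B⁻¹ = 1 := Matrix.mul_nonsing_inv B hdet
  have hBB' : B⁻¹ * B = 1 := Matrix.nonsing_inv_mul B hdet
  refine ⟨B, B⁻¹, hBB, hBB', fun g => ?_⟩
  have h2 : (B * σ g * B⁻¹)ᴴ * (B * σ g * B⁻¹) = 1 := by
    calc (B * σ g * B⁻¹)ᴴ * (B * σ g * B⁻¹) = (B⁻¹)ᴴ * ((σ g)ᴴ * (Bᴴ * B) * σ g) * B⁻¹ := by
          simp only [conjTranspose_mul, Matrix.mul_assoc]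
      _ = (B⁻¹)ᴴ * H * B⁻¹ := by rw [← hB, hH]
      _ = ((B⁻¹)ᴴ * Bᴴ) * (B * B⁻¹) := by rw [hB]; simp only [Matrix.mul_assoc]
      _ = 1 := by rw [← conjTranspose_mul, hBB, conjTranspose_one, Matrix.one_mul]
  have h3 : B * σ g * B⁻¹ * (B * σ g⁻¹ * B⁻¹) = 1 := by
    calc B * σ g * B⁻¹ * (B * σ g⁻¹ * B⁻¹) = B * σ g * (B⁻¹ * B) * σ g⁻¹ * B⁻¹ := by simp only [Matrix.mul_assoc]
      _ = B * (σ g * σ g⁻¹) * B⁻¹ := by rw [hBB', Matrix.mul_one]; simp only [Matrix.mul_assoc]
      _ = 1 := by rw [← map_mul, mul_inv_cancel, map_one, Matrix.mul_one, hBB]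
  calc (B * σ g * B⁻¹)ᴴ = (B * σ g * B⁻¹)ᴴ * (B * σ g * B⁻¹ * (B * σ g⁻¹ * B⁻¹)) := by rw [h3, Matrix.mul_one]
    _ = B * σ g⁻¹ * B⁻¹ := by rw [← Matrix.mul_assoc, h2, Matrix.one_mul]

/-- a representation over a subring of `ℂ` in a unitary basis -/
theorem exists_psi [Finite G] {R : Type*} [CommRing R] (j : R →+* ℂ) (hj : Function.Injective j)
    (A : G →* Matrix n n R) : ∃ Ψ : Matrix n n R →+* Matrix n n ℂ, Function.Injective Ψ ∧
      (∀ (s : R) (M : Matrix n n R), Ψ (s • M) = j s • Ψ M) ∧ ∀ g, (Ψ (A g))ᴴ = Ψ (A g⁻¹) := by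
  obtain ⟨B, B', hBB, hBB', hBU⟩ := exists_unitary
    (((j.mapMatrix : Matrix n n R →+* Matrix n n ℂ).toMonoidHom.comp A : G →* Matrix n n ℂ))
  let Ψ : Matrix n n R →+* Matrix n n ℂ :=
    { toFun := fun M => B * M.map j * B'
      map_one' := by rw [Matrix.map_one _ (map_zero _) (map_one _), Matrix.mul_one, hBB]
      map_mul' := fun M N => by
        rw [Matrix.map_mul]
        calc B * (M.map j * N.map j) * B' = B * M.map j * (1 * N.map j) * B' := by
              rw [Matrix.one_mul]; simp only [Matrix.mul_assoc]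
          _ = B * M.map j * B' * (B * N.map j * B') := by
              rw [← hBB']; simp only [Matrix.mul_assoc]
      map_zero' := by rw [Matrix.map_zero _ (map_zero _), Matrix.mul_zero, Matrix.zero_mul]
      map_add' := fun M N => by
        rw [Matrix.map_add _ (map_add j), mul_add, add_mul] }
  refine ⟨Ψ, ?_, ?_, hBU⟩
  · intro M N h5
    have h5' : B * M.map j * B' = B * N.map j * B' := h5
    have h6 : ∀ W : Matrix n n ℂ, B' * (B * W * B') * B = W := by
      intro W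
      calc B' * (B * W * B') * B = (B' * B) * W * (B' * B) := by simp only [Matrix.mul_assoc]
        _ = W := by rw [hBB', Matrix.one_mul, Matrix.mul_one]
    have h7 : M.map j = N.map j := by rw [← h6 (M.map j), h5', h6]
    exact Matrix.map_injective hj h7
  · intro s M
    show B * (s • M).map j * B' = j s • (B * M.map j * B')
    have h5 : (s • M).map j = j s • M.map j := by ext; simp
    rw [h5, Matrix.mul_smul, Matrix.smul_mul]

end unitary

section ring

variable {A : Type*} [Ring A] {β E : A}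

theorem sq3 (h : β ^ 6 = 1) : (1 + β ^ 2 + β ^ 4) * (1 + β ^ 2 + β ^ 4) = 3 • (1 + β ^ 2 + β ^ 4) := by
  have h8 : (1 + β ^ 2 + β ^ 4) * (1 + β ^ 2 + β ^ 4) =
      1 + 2 * β ^ 2 + 3 * β ^ 4 + 2 * β ^ 6 + β ^ 6 * β ^ 2 := by noncomm_ring
  rw [h8, h]
  noncomm_ring

theorem sq2 (h : β ^ 6 = 1) : (1 + β ^ 3) * (1 + β ^ 3) = 2 • (1 + β ^ 3) := by
  have h8 : (1 + β ^ 3) * (1 + β ^ 3) = 1 + 2 * β ^ 3 + β ^ 6 := by noncomm_ring
  rw [h8, h]
  noncomm_ring

theorem fix3 (h : β ^ 6 = 1) : β ^ 2 * (1 + β ^ 2 + β ^ 4) = 1 + β ^ 2 + β ^ 4 := by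
  have h8 : β ^ 2 * (1 + β ^ 2 + β ^ 4) = β ^ 2 + β ^ 4 + β ^ 6 := by noncomm_ring
  rw [h8, h]
  abel

theorem fix2 (h : β ^ 6 = 1) : β ^ 3 * (1 + β ^ 3) = 1 + β ^ 3 := by
  have h8 : β ^ 3 * (1 + β ^ 3) = β ^ 3 + β ^ 6 := by noncomm_ring
  rw [h8, h]
  abel

theorem two_rel (h : β ^ 6 = 1) (h3 : 3 • E = 1 + β ^ 2 + β ^ 4) (h2 : 2 • E = 1 + β ^ 3) :
    2 • (β + β ^ 5) = 2 • (1 + E) := by
  have h6 : 2 • (1 + β ^ 2 + β ^ 4) = 3 • (1 + β ^ 3) := by
    rw [← h3, ← h2, smul_smul, smul_smul, mul_comm]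
  have h7 : β ^ 3 * (2 • (1 + β ^ 2 + β ^ 4)) = 3 • (1 + β ^ 3) := by
    rw [h6, mul_smul_comm, fix2 h]
  have h8 : β ^ 3 * (2 • (1 + β ^ 2 + β ^ 4)) = 2 • β ^ 3 + 2 • β ^ 5 + 2 • (β ^ 6 * β) := by noncomm_ring
  rw [h8, h, one_mul] at h7
  have h10 : 2 • (β + β ^ 5) = (2 • β ^ 3 + 2 • β ^ 5 + 2 • β) - 2 • β ^ 3 := by abel
  rw [h10, h7, smul_add 2 1 E, h2]
  abel

end ring

section main

variable {K : Type*} [Field K] {G : Type*} [Group G] [Fintype G] {n : Type*} [Fintype n] [DecidableEq n]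

theorem natCast_ne_zero_of_dvd {S : Type*} [CommRing S] {a b : ℕ} (h : a ∣ b) (hb : (b : S) ≠ 0) : (a : S) ≠ 0 := by
  rintro h0
  obtain ⟨c, rfl⟩ := h
  exact hb (by rw [Nat.cast_mul, h0, zero_mul])

theorem Lifts.inv (L : Lifts K) {m N : ℕ} (hN : (N : K) ≠ 0) (hm : m ∣ N) : ∃ d : L.R, d * (m : L.R) = 1 := by
  have h5 : IsUnit (m : L.R) := by
    refine L.sys.unit _ ?_
    rw [map_natCast, ← map_natCast L.ι]
    exact (map_ne_zero L.ι).2 (natCast_ne_zero_of_dvd hm hN)
  obtain ⟨u, hu⟩ := h5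
  exact ⟨((u⁻¹ : L.Rˣ) : L.R), by rw [← hu, Units.inv_mul]⟩

theorem Lifts.ker (L : Lifts K) {M : Matrix n n L.R} (h : M * M = M) (h0 : M.map L.red = 0) : M = 0 :=
  eq_zero_of_map L.sys (red_matrix L.sys n) h h0

/-- the averaging operators correspond -/
theorem Lifts.map_av (L : Lifts K) (ρ : G →* Matrix n n K) (A : G →* Matrix n n L.R)
    (hA : ∀ g, (A g).map L.red = (ρ g).map L.ι) (X : Subgroup G) {d : L.R} (hd : d * (Nat.card X : L.R) = 1) :
    (av A X d).map L.red = (av ρ X (Nat.card X : K)⁻¹).map L.ι := by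
  have hΦs : ∀ (s : L.R) (M : Matrix n n L.R), L.red.mapMatrix (s • M) = L.red s • L.red.mapMatrix M := by
    intro s M
    ext i j
    show L.red ((s • M) i j) = L.red s * L.red (M i j)
    rw [Matrix.smul_apply, smul_eq_mul, map_mul]
  have hIs : ∀ (s : K) (M : Matrix n n K), L.ι.mapMatrix (s • M) = L.ι s • L.ι.mapMatrix M := by
    intro s M
    ext i j
    show L.ι ((s • M) i j) = L.ι s * L.ι (M i j)
    rw [Matrix.smul_apply, smul_eq_mul, map_mul]
  have h1 := RV.map_av A (Y := X) d L.red.mapMatrix L.red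
    ((L.ι.mapMatrix : Matrix n n K →+* Matrix n n L.k).toMonoidHom.comp ρ) hΦs hA
  have h2 := RV.map_av ρ (Y := X) (Nat.card X : K)⁻¹ L.ι.mapMatrix L.ι
    ((L.ι.mapMatrix : Matrix n n K →+* Matrix n n L.k).toMonoidHom.comp ρ) hIs (fun g => rfl)
  have h5 : L.red d * (Nat.card X : L.k) = 1 := by
    rw [← map_natCast L.red, ← map_mul, hd, map_one]
  rw [map_inv₀, map_natCast, ← eq_inv_of_mul_eq_one_left h5] at h2
  exact h1.trans h2.symm

/-- a fixed space determines the averaging operator of the lift: `M` is the lift of an idempotent with the same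
fixed space -/
theorem Lifts.eq_of_fix (L : Lifts K) {E M : Matrix n n L.R} {e N : Matrix n n K} (hEE : E * E = E) (hM : M * M = M)
    (hEM : E * M = E) (hME : M * E = E) (hE : E.map L.red = e.map L.ι) (hN : M.map L.red = N.map L.ι)
    (h : e * N = N) : M = E := by
  have hI : Function.Injective (fun W : Matrix n n K => W.map L.ι) := Matrix.map_injective L.ι.injective
  rw [← sub_eq_zero]
  refine L.ker ?_ ?_
  · rw [sub_mul, mul_sub, mul_sub, hM, hEM, hME, hEE]
    abel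
  · rw [Matrix.map_sub _ (map_sub _), sub_eq_zero, hN, hE]
    have h1 : (e * N).map L.ι = e.map L.ι := by
      rw [Matrix.map_mul, ← hN, ← hE, ← Matrix.map_mul, hEM]
    rw [← h1, h]

/-- The relation `b + b⁻¹ = 1 + e` for an element of order 6 such that `b ^ 2` and `b ^ 3` have the same fixed space
as `X`. -/
theorem Lifts.rel (L : Lifts K) (hG : (Nat.card G : K) ≠ 0) (ρ : G →* Matrix n n K) (A : G →* Matrix n n L.R)
    (hA : ∀ g, (A g).map L.red = (ρ g).map L.ι) (X : Subgroup G) {b : G} (hb : b ∈ X)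
    (hb6 : orderOf b = 6)
    (h2 : ∀ v, ρ (b ^ 2) *ᵥ v = v → ∀ x ∈ X, ρ x *ᵥ v = v)
    (h3 : ∀ v, ρ (b ^ 3) *ᵥ v = v → ∀ x ∈ X, ρ x *ᵥ v = v)
    {d : L.R} (hd : d * (Nat.card X : L.R) = 1) : A b + A b⁻¹ = 1 + av A X d := by
  have h6G : 6 ∣ Nat.card G := hb6 ▸ orderOf_dvd_natCard b
  obtain ⟨c3, hc3⟩ := L.inv (m := 3) hG (Dvd.dvd.trans (by norm_num) h6G)
  obtain ⟨c2, hc2⟩ := L.inv (m := 2) hG (Dvd.dvd.trans (by norm_num) h6G)
  have h3K : (3 : K) ≠ 0 := by
    have := natCast_ne_zero_of_dvd (S := K) (a := 3) (Dvd.dvd.trans (by norm_num) h6G) hG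
    exact_mod_cast this
  have h2K : (2 : K) ≠ 0 := by
    have := natCast_ne_zero_of_dvd (S := K) (a := 2) (Dvd.dvd.trans (by norm_num) h6G) hG
    exact_mod_cast this
  have hXK : (Nat.card X : K) ≠ 0 := natCast_ne_zero_of_dvd (Subgroup.card_subgroup_dvd_card X) hG
  have hΦE := L.map_av ρ A hA X hd
  set E := av A X d with hE
  have hEE : E * E = E := av_idem A d hd
  set β := A b with hβ
  have hβ6 : β ^ 6 = 1 := by rw [hβ, ← map_pow, ← hb6, pow_orderOf_eq_one, map_one]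
  have hβE : β * E = E := mul_av A d hb
  have hEβ : E * β = E := av_mul A d hb
  have hfix : ∀ (m : ℕ), (∀ v, ρ (b ^ m) *ᵥ v = v → ∀ x ∈ X, ρ x *ᵥ v = v) → ∀ M : Matrix n n K,
      ρ (b ^ m) * M = M → av ρ X (Nat.card X : K)⁻¹ * M = M := by
    intro m hm M hM
    refine av_mul_of ρ _ (inv_mul_cancel₀ hXK) fun x hx => ?_
    ext i j
    have h5 := hm (fun i => M i j) (by
      ext i
      exact congrFun (congrFun hM i) j) x hx
    exact congrFun h5 i
  have hpowE : ∀ m : ℕ, E * β ^ m = E := by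
    intro m
    induction m with
    | zero => rw [pow_zero, Matrix.mul_one]
    | succ m ih => rw [pow_succ, ← Matrix.mul_assoc, ih, hEβ]
  have hpowE' : ∀ m : ℕ, β ^ m * E = E := by
    intro m
    induction m with
    | zero => rw [pow_zero, Matrix.one_mul]
    | succ m ih => rw [pow_succ, Matrix.mul_assoc, hβE, ih]
  have hρ6 : ρ b ^ 6 = 1 := by rw [← map_pow, ← hb6, pow_orderOf_eq_one, map_one]
  have hKb : ∀ m, (β ^ m).map L.red = (ρ (b ^ m)).map L.ι := fun m => by rw [hβ, ← map_pow, hA]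
  have hc3' : c3 * 3 = 1 := hc3
  have hc2' : c2 * 2 = 1 := hc2
  have h5 : c3 • (1 + β ^ 2 + β ^ 4) = E := by
    refine L.eq_of_fix hEE ?_ ?_ ?_ hΦE (N := (3 : K)⁻¹ • (1 + ρ (b ^ 2) + ρ (b ^ 4))) ?_ ?_
    · rw [smul_mul_smul_comm, sq3 hβ6, ← ofNat_smul_eq_nsmul L.R, smul_smul, mul_assoc, hc3', mul_one]
    · rw [Matrix.mul_smul, mul_add, mul_add, Matrix.mul_one, hpowE, hpowE]
      have h6 : E + E + E = (3 : L.R) • E := by rw [ofNat_smul_eq_nsmul]; abel
      rw [h6, smul_smul, hc3', one_smul]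
    · rw [Matrix.smul_mul, add_mul, add_mul, Matrix.one_mul, hpowE', hpowE']
      have h6 : E + E + E = (3 : L.R) • E := by rw [ofNat_smul_eq_nsmul]; abel
      rw [h6, smul_smul, hc3', one_smul]
    · have h10 : L.red c3 * 3 = 1 := by
        have := congrArg L.red hc3'
        rwa [map_mul, map_one, map_ofNat] at this
      ext i j
      have e2 := congrFun (congrFun (hKb 2) i) j
      have e4 := congrFun (congrFun (hKb 4) i) j
      simp only [Matrix.map_apply] at e2 e4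
      have e0 : L.red ((1 : Matrix n n L.R) i j) = L.ι ((1 : Matrix n n K) i j) := by
        rw [Matrix.one_apply, Matrix.one_apply]
        split_ifs <;> simp
      simp only [Matrix.map_apply, Matrix.smul_apply, Matrix.add_apply, smul_eq_mul, map_mul, map_add]
      rw [e0, e2, e4, map_inv₀, map_ofNat, eq_inv_of_mul_eq_one_left h10]
    · refine hfix 2 h2 _ ?_
      rw [Matrix.mul_smul, map_pow, map_pow, fix3 hρ6]
  have h5' : c2 • (1 + β ^ 3) = E := by
    refine L.eq_of_fix hEE ?_ ?_ ?_ hΦE (N := (2 : K)⁻¹ • (1 + ρ (b ^ 3))) ?_ ?_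
    · rw [smul_mul_smul_comm, sq2 hβ6, ← ofNat_smul_eq_nsmul L.R, smul_smul, mul_assoc, hc2', mul_one]
    · rw [Matrix.mul_smul, mul_add, Matrix.mul_one, hpowE]
      have h6 : E + E = (2 : L.R) • E := by rw [ofNat_smul_eq_nsmul]; abel
      rw [h6, smul_smul, hc2', one_smul]
    · rw [Matrix.smul_mul, add_mul, Matrix.one_mul, hpowE']
      have h6 : E + E = (2 : L.R) • E := by rw [ofNat_smul_eq_nsmul]; abel
      rw [h6, smul_smul, hc2', one_smul]
    · have h10 : L.red c2 * 2 = 1 := by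
        have := congrArg L.red hc2'
        rwa [map_mul, map_one, map_ofNat] at this
      ext i j
      have e2 := congrFun (congrFun (hKb 3) i) j
      simp only [Matrix.map_apply] at e2
      have e0 : L.red ((1 : Matrix n n L.R) i j) = L.ι ((1 : Matrix n n K) i j) := by
        rw [Matrix.one_apply, Matrix.one_apply]
        split_ifs <;> simp
      simp only [Matrix.map_apply, Matrix.smul_apply, Matrix.add_apply, smul_eq_mul, map_mul, map_add]
      rw [e0, e2, map_inv₀, map_ofNat, eq_inv_of_mul_eq_one_left h10]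
    · refine hfix 3 h3 _ ?_
      rw [Matrix.mul_smul, map_pow, fix2 hρ6]
  have hE2 : 3 • E = 1 + β ^ 2 + β ^ 4 := by
    rw [← h5, ← ofNat_smul_eq_nsmul L.R, smul_smul, mul_comm, hc3', one_smul]
  have hE3 : 2 • E = 1 + β ^ 3 := by
    rw [← h5', ← ofNat_smul_eq_nsmul L.R, smul_smul, mul_comm, hc2', one_smul]
  have h6 := two_rel hβ6 hE2 hE3
  have hinvb : A b⁻¹ = β ^ 5 := by
    have h5 : b⁻¹ = b ^ 5 := by
      rw [inv_eq_iff_mul_eq_one, ← pow_succ', show 5 + 1 = 6 from rfl, ← hb6, pow_orderOf_eq_one]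
    rw [h5, map_pow]
  rw [hinvb]
  have h7 := congrArg (fun M => c2 • M) h6
  simp only [← ofNat_smul_eq_nsmul L.R, smul_smul] at h7
  rwa [hc2', one_smul, one_smul] at h7

/-- **THEOREM 60** for matrix representations over a finite field of a group of order prime to the characteristic. -/
theorem sixty_mat [Finite K] (hG : (Nat.card G : K) ≠ 0) (ρ : G →* Matrix n n K) (X : Subgroup G) {b : G} (hb : b ∈ X)
    (hb6 : orderOf b = 6)
    (h2 : ∀ v, ρ (b ^ 2) *ᵥ v = v → ∀ x ∈ X, ρ x *ᵥ v = v)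
    (h3 : ∀ v, ρ (b ^ 3) *ᵥ v = v → ∀ x ∈ X, ρ x *ᵥ v = v)
    (hgen : X ≤ Subgroup.closure {y | ∃ x ∈ X, y = x * b * x⁻¹}) {e : Matrix n n K}
    (he : e = av ρ X (Nat.card X : K)⁻¹)
    (h4 : ∀ g : G, (∀ x ∈ X, ρ x * (ρ g * e * ρ g⁻¹) = ρ g * e * ρ g⁻¹ * ρ x) →
      ρ g * e * ρ g⁻¹ * (1 - e) = 0 ∨ ρ g * e * ρ g⁻¹ * (1 - e) = 1 - e) (g : G) :
    ρ g * e * ρ g⁻¹ = e ∨ (1 - e) * (1 - ρ g * e * ρ g⁻¹) = 0 := by
  classical
  obtain ⟨L⟩ := exists_lifts K
  obtain ⟨A, hA⟩ := L.exists_rep hG ρ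
  have hXG : Nat.card X ∣ Nat.card G := Subgroup.card_subgroup_dvd_card X
  obtain ⟨d, hd⟩ := L.inv hG hXG
  have hXK : (Nat.card X : K) ≠ 0 := natCast_ne_zero_of_dvd hXG hG
  have hrel := L.rel hG ρ A hA X hb hb6 h2 h3 hd
  have hΦE := L.map_av ρ A hA X hd
  rw [← he] at hΦE
  obtain ⟨Ψ, hΨinj, hΨs, hΨH⟩ := exists_psi L.j L.inj A
  let U : G →* Matrix n n ℂ := Ψ.toMonoidHom.comp A
  have hU : ∀ g, (U g)ᴴ = U g⁻¹ := hΨH
  have hUA : ∀ g, Ψ (A g) = U g := fun g => rfl
  have hΨE : Ψ (av A X d) = av U X (Nat.card X : ℂ)⁻¹ := by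
    have hjd : L.j d = (Nat.card X : ℂ)⁻¹ := by
      have h5 := congrArg L.j hd
      rw [map_mul, map_natCast, map_one] at h5
      exact eq_inv_of_mul_eq_one_left h5
    rw [RV.map_av A d Ψ L.j U hΨs hUA, hjd]
  have hmulE : ∀ x ∈ X, A x * av A X d = av A X d := fun x hx => mul_av A d hx
  have hEmul : ∀ x ∈ X, av A X d * A x = av A X d := fun x hx => av_mul A d hx
  have hEE : av A X d * av A X d = av A X d := av_idem A d hd
  have hcE : ∀ {M : Matrix n n L.R}, (∀ y ∈ X, A y * M = M * A y) → av A X d * M = M * av A X d :=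
    fun h => commute_av A d h
  generalize av A X d = E at hrel hΦE hΨE hmulE hEmul hEE hcE
  have hEH : (Ψ E)ᴴ = Ψ E := by
    rw [hΨE, av, conjTranspose_smul, conjTranspose_sum, star_inv₀, star_natCast]
    congr 1
    refine Finset.sum_equiv (Equiv.inv G) (fun z => ?_) fun z _ => ?_
    · simp
    · rw [hU]; rfl
  have hI : Function.Injective (fun W : Matrix n n K => W.map L.ι) := Matrix.map_injective L.ι.injective
  have hA1 : ∀ x : G, A x⁻¹ * A x = 1 := fun x => by rw [← map_mul, inv_mul_cancel, map_one]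
  have hA2 : ∀ x : G, A x * A x⁻¹ = 1 := fun x => by rw [← map_mul, mul_inv_cancel, map_one]
  have hΦF : ∀ g, (A g * E * A g⁻¹).map L.red = (ρ g * e * ρ g⁻¹).map L.ι := by
    intro g
    rw [Matrix.map_mul, Matrix.map_mul, hA, hA, hΦE, Matrix.map_mul, Matrix.map_mul]
  have hFU : ∀ g, U g * Ψ E * U g⁻¹ = Ψ (A g * E * A g⁻¹) := by
    intro g
    rw [← hUA, ← hUA, ← map_mul Ψ, ← map_mul Ψ]
  have hred1 : ∀ W : Matrix n n L.R, (1 - W).map L.red = 1 - W.map L.red := by
    intro W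
    rw [Matrix.map_sub _ (map_sub L.red), Matrix.map_one _ (map_zero _) (map_one _)]
  have hι1 : ∀ W : Matrix n n K, (1 - W).map L.ι = 1 - W.map L.ι := by
    intro W
    rw [Matrix.map_sub _ (map_sub L.ι), Matrix.map_one _ (map_zero _) (map_one _)]
  have hmain := sixty_unitary U hU (e := Ψ E) (by rw [← map_mul Ψ, hEE]) hEH {y | ∃ x ∈ X, y = x * b * x⁻¹}
    (by
      rintro c ⟨x, hx, rfl⟩
      rw [← hUA, ← map_mul Ψ, hmulE _ (X.mul_mem (X.mul_mem hx hb) (X.inv_mem hx))])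
    (by
      rintro c ⟨x, hx, rfl⟩
      rw [← hUA, ← hUA, ← map_add Ψ, ← map_one Ψ, ← map_add Ψ]
      congr 1
      have h5 : (x * b * x⁻¹)⁻¹ = x * b⁻¹ * x⁻¹ := by group
      rw [h5, map_mul, map_mul, map_mul, map_mul, ← add_mul, ← mul_add, hrel, mul_add, Matrix.mul_one,
        hmulE x hx, add_mul, hA2, hEmul _ (X.inv_mem hx)])
    (by
      intro g hg
      rw [hFU] at hg ⊢
      have h5 := h4 g
      have hΦFg := hΦF g
      have hFF : (A g * E * A g⁻¹) * (A g * E * A g⁻¹) = A g * E * A g⁻¹ := by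
        calc (A g * E * A g⁻¹) * (A g * E * A g⁻¹) = A g * E * (A g⁻¹ * A g) * E * A g⁻¹ := by
              simp only [Matrix.mul_assoc]
          _ = A g * E * A g⁻¹ := by rw [hA1, Matrix.mul_one, Matrix.mul_assoc (A g) E E, hEE]
      generalize A g * E * A g⁻¹ = F at hg hΦFg hFF ⊢
      generalize ρ g * e * ρ g⁻¹ = f at h5 hΦFg
      have hcommF : ∀ x ∈ X, A x * F = F * A x := by
        intro x hx
        have hx' := hgen hx
        clear hx
        induction hx' using Subgroup.closure_induction with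
        | mem y hy =>
          have h5 := hg y hy
          rw [← hUA, ← map_mul Ψ, ← map_mul Ψ] at h5
          exact hΨinj h5
        | one => rw [map_one, Matrix.one_mul, Matrix.mul_one]
        | mul y z _ _ hy hz => rw [map_mul, Matrix.mul_assoc, hz, ← Matrix.mul_assoc, hy, Matrix.mul_assoc]
        | inv y _ hy =>
          calc A y⁻¹ * F = A y⁻¹ * (F * A y) * A y⁻¹ := by
                rw [← Matrix.mul_assoc, Matrix.mul_assoc (A y⁻¹ * F), hA2, Matrix.mul_one]
            _ = F * A y⁻¹ := by rw [← hy, ← Matrix.mul_assoc, hA1, Matrix.one_mul]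
      have hEF : E * F = F * E := hcE hcommF
      replace h5 := h5 (by
        intro x hx
        apply hI
        show (ρ x * f).map L.ι = (f * ρ x).map L.ι
        rw [Matrix.map_mul, Matrix.map_mul, ← hΦFg, ← hA, ← Matrix.map_mul, ← Matrix.map_mul, hcommF x hx])
      have h1E : (1 - E) * (1 - E) = 1 - E := by
        rw [sub_mul, Matrix.one_mul, mul_sub, Matrix.mul_one, hEE, sub_self, sub_zero]
      have hF1 : F * (1 - E) = (1 - E) * F := by
        rw [mul_sub, sub_mul, Matrix.mul_one, Matrix.one_mul, hEF]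
      have hid : (F * (1 - E)) * (F * (1 - E)) = F * (1 - E) := by
        calc (F * (1 - E)) * (F * (1 - E)) = F * ((1 - E) * F) * (1 - E) := by simp only [Matrix.mul_assoc]
          _ = (F * F) * ((1 - E) * (1 - E)) := by rw [← hF1]; simp only [Matrix.mul_assoc]
          _ = F * (1 - E) := by rw [hFF, h1E]
      have hΦ1 : (F * (1 - E)).map L.red = (f * (1 - e)).map L.ι := by
        rw [Matrix.map_mul, hΦFg, hred1, hΦE, Matrix.map_mul, hι1]
      rw [← map_one Ψ, ← map_sub Ψ, ← map_mul Ψ]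
      rcases h5 with h5 | h5
      · left
        rw [L.ker hid (by rw [hΦ1, h5, Matrix.map_zero _ (map_zero _)]), map_zero]
      · right
        congr 1
        symm
        rw [← sub_eq_zero]
        have h6 : F * (1 - E) * (1 - E) = F * (1 - E) := by rw [Matrix.mul_assoc, h1E]
        have h7 : (1 - E) * (F * (1 - E)) = F * (1 - E) := by
          rw [← Matrix.mul_assoc, ← hF1, h6]
        have h8 : (1 - E - F * (1 - E)).map L.red = 0 := by
          rw [Matrix.map_sub _ (map_sub L.red), hΦ1, h5, hred1, hι1, hΦE, sub_self]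
        generalize F * (1 - E) = P at h6 h7 h8 hid
        generalize 1 - E = Q at h1E h6 h7 h8
        refine L.ker ?_ h8
        rw [sub_mul, mul_sub, mul_sub, hid, h6, h7, h1E]
        abel) g
  rw [hFU] at hmain
  rcases hmain with h5 | h5
  · left
    have h6 := hΨinj h5
    apply hI
    show (ρ g * e * ρ g⁻¹).map L.ι = e.map L.ι
    rw [← hΦF, h6, hΦE]
  · right
    rw [← map_one Ψ, ← map_sub Ψ, ← map_sub Ψ, ← map_mul Ψ, ← map_zero Ψ] at h5
    have h6 := hΨinj h5
    apply hI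
    show ((1 - e) * (1 - ρ g * e * ρ g⁻¹)).map L.ι = (0 : Matrix n n K).map L.ι
    rw [Matrix.map_mul, hι1, hι1, ← hΦF, ← hΦE, ← hred1, ← hred1, ← Matrix.map_mul, h6, Matrix.map_zero _ (map_zero _),
      Matrix.map_zero _ (map_zero _)]

end main

end Cfsg.Agent.H750.RV
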