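import Mathlib
import Cfsg.Agent.H750.RV.SixtyP

/-!
# THEOREM 60 for modules (helper750)

`ρ : Representation K G V`, `K` a finite field, `(Nat.card G : K) ≠ 0`, `X ≤ G`, `b ∈ X` of order 6 such that `b ^ 2` and
`b ^ 3` have the same fixed vectors as `X`, `X` generated by its conjugates of `b`.

* `sp ρ X` : the support `[V, X]`;
* `sixty_mod` : if `X` is irreducible on `[V, X]` (only submodules `W` such that all nondegenerate `G`-invariant forms are
  nondegenerate on `W` are needed), then for every `g`: `g [V, X] = [V, X]` (and `C_V(X ^ g) = C_V(X)`) or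
  `[V, X] ≤ C_V(X ^ g)`;
* `sixty_big` : if moreover `2 dim C_V(X) < dim V` then every `g` stabilises `C_V(X)` and `[V, X]`.
-/

set_option autoImplicit false
set_option linter.unusedSectionVars false

namespace Cfsg.Agent.H750.RV

open Module Matrix

variable {K : Type*} [Field K] {V : Type*} [AddCommGroup V] [Module K V] {G : Type*} [Group G]

/-- the support of `X` -/
def sp (ρ : Representation K G V) (X : Subgroup G) : Submodule K V :=
  Submodule.span K {w | ∃ x ∈ X, ∃ v, w = ρ x v - v}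

/-- the fixed vectors of `X` -/
def fx (ρ : Representation K G V) (X : Subgroup G) : Submodule K V where
  carrier := {v | ∀ x ∈ X, ρ x v = v}
  zero_mem' := fun x _ => map_zero _
  add_mem' := fun {v w} hv hw x hx => by rw [map_add, hv x hx, hw x hx]
  smul_mem' := fun c v hv x hx => by rw [map_smul, hv x hx]

theorem mem_fx {ρ : Representation K G V} {X : Subgroup G} {v : V} : v ∈ fx ρ X ↔ ∀ x ∈ X, ρ x v = v := Iff.rfl

open Classical in
/-- the projection on the fixed vectors -/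
noncomputable def pr [Fintype G] (ρ : Representation K G V) (X : Subgroup G) : V →ₗ[K] V :=
  (Nat.card X : K)⁻¹ • ∑ x ∈ Finset.univ.filter (· ∈ X), ρ x

section pr

variable [Fintype G] (ρ : Representation K G V) {X : Subgroup G} (hX : (Nat.card X : K) ≠ 0)

theorem mul_pr {x : G} (hx : x ∈ X) : ρ x * pr ρ X = pr ρ X := by
  classical
  rw [pr, mul_smul_comm, Finset.mul_sum]
  congr 1
  refine Finset.sum_equiv (Equiv.mulLeft x) (fun z => ?_) fun z _ => ?_
  · simp [Subgroup.mul_mem_cancel_left X hx]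
  · rw [Equiv.coe_mulLeft, map_mul]

theorem pr_mul {x : G} (hx : x ∈ X) : pr ρ X * ρ x = pr ρ X := by
  classical
  rw [pr, smul_mul_assoc, Finset.sum_mul]
  congr 1
  refine Finset.sum_equiv (Equiv.mulRight x) (fun z => ?_) fun z _ => ?_
  · simp [Subgroup.mul_mem_cancel_right X hx]
  · rw [Equiv.coe_mulRight, map_mul]

include hX in
theorem pr_apply_of {v : V} (hv : v ∈ fx ρ X) : pr ρ X v = v := by
  classical
  rw [pr, LinearMap.smul_apply, LinearMap.sum_apply, Finset.sum_congr rfl fun x hx => hv x (Finset.mem_filter.1 hx).2,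
    Finset.sum_const, card_filter, ← Nat.cast_smul_eq_nsmul K, smul_smul, inv_mul_cancel₀ hX, one_smul]

theorem pr_mem (v : V) : pr ρ X v ∈ fx ρ X := fun x hx => by
  have h := congrArg (fun f : V →ₗ[K] V => f v) (mul_pr ρ hx)
  exact h

include hX in
theorem pr_pr : pr ρ X * pr ρ X = pr ρ X := by
  ext v
  exact pr_apply_of ρ hX (pr_mem ρ v)

include hX in
theorem sub_pr_mem (v : V) : v - pr ρ X v ∈ sp ρ X := by
  classical
  have h1 : v - pr ρ X v = -((Nat.card X : K)⁻¹ • ∑ x ∈ Finset.univ.filter (· ∈ X), (ρ x v - v)) := by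
    rw [Finset.sum_sub_distrib, Finset.sum_const, card_filter, ← Nat.cast_smul_eq_nsmul K, smul_sub, smul_smul,
      inv_mul_cancel₀ hX, one_smul, pr, LinearMap.smul_apply, LinearMap.sum_apply, neg_sub]
  rw [h1]
  refine Submodule.neg_mem _ (Submodule.smul_mem _ _ (Submodule.sum_mem _ fun x hx => ?_))
  exact Submodule.subset_span ⟨x, (Finset.mem_filter.1 hx).2, v, rfl⟩

theorem pr_sp {v : V} (hv : v ∈ sp ρ X) : pr ρ X v = 0 := by
  have h1 : sp ρ X ≤ LinearMap.ker (pr ρ X) := by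
    refine Submodule.span_le.2 ?_
    rintro w ⟨x, hx, u, rfl⟩
    rw [SetLike.mem_coe, LinearMap.mem_ker, map_sub, sub_eq_zero]
    exact congrArg (fun f : V →ₗ[K] V => f u) (pr_mul ρ hx)
  exact h1 hv

include hX in
theorem mem_sp_iff {v : V} : v ∈ sp ρ X ↔ pr ρ X v = 0 := by
  refine ⟨pr_sp ρ, fun h => ?_⟩
  have := sub_pr_mem ρ hX v
  rwa [h, sub_zero] at this

include hX in
theorem mem_fx_iff {v : V} : v ∈ fx ρ X ↔ pr ρ X v = v :=
  ⟨pr_apply_of ρ hX, fun h => h ▸ pr_mem ρ v⟩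

/-- `pr` is self-adjoint -/
theorem pr_adj (B : V →ₗ[K] V →ₗ[K] K) (hB : ∀ (g : G) v w, B (ρ g v) (ρ g w) = B v w) (v w : V) :
    B (pr ρ X v) w = B v (pr ρ X w) := by
  classical
  rw [pr, LinearMap.smul_apply, LinearMap.sum_apply, LinearMap.smul_apply, LinearMap.sum_apply, map_smul, map_smul,
    map_sum, map_sum, LinearMap.smul_apply, LinearMap.sum_apply]
  congr 1
  refine Finset.sum_equiv (Equiv.inv G) (fun z => ?_) fun z _ => ?_
  · simp
  · have h1 := hB z v (ρ z⁻¹ w)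
    have h2 : ρ z (ρ z⁻¹ w) = w := by
      have : (ρ z * ρ z⁻¹) w = w := by rw [← map_mul, mul_inv_cancel, map_one]; rfl
      exact this
    rw [h2] at h1
    exact h1

end pr

/-- **THEOREM 60** for modules. -/
theorem sixty_mod [Finite K] [FiniteDimensional K V] [Finite G] (hG : (Nat.card G : K) ≠ 0)
    (ρ : Representation K G V) (X : Subgroup G) {b : G} (hb : b ∈ X) (hb6 : orderOf b = 6)
    (h2 : ∀ v, ρ (b ^ 2) v = v → ∀ x ∈ X, ρ x v = v)
    (h3 : ∀ v, ρ (b ^ 3) v = v → ∀ x ∈ X, ρ x v = v)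
    (hgen : X ≤ Subgroup.closure {y | ∃ x ∈ X, y = x * b * x⁻¹})
    (hirr : ∀ W : Submodule K V, W ≤ sp ρ X → (∀ x ∈ X, ∀ w ∈ W, ρ x w ∈ W) →
      (∀ B : V →ₗ[K] V →ₗ[K] K, (∀ (g : G) v w, B (ρ g v) (ρ g w) = B v w) →
        (∀ v, (∀ w, B v w = 0) → v = 0) → ∀ w ∈ W, (∀ w' ∈ W, B w w' = 0) → w = 0) →
      W = ⊥ ∨ W = sp ρ X) (g : G) :
    ((sp ρ X).map (ρ g) = sp ρ X ∧ (fx ρ X).map (ρ g) = fx ρ X) ∨
      ∀ v ∈ sp ρ X, ∀ x ∈ X, ρ (g * x * g⁻¹) v = v := by
  classical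
  have := Fintype.ofFinite G
  have hXK : (Nat.card X : K) ≠ 0 := natCast_ne_zero_of_dvd (Subgroup.card_subgroup_dvd_card X) hG
  let β := finBasis K V
  let M : Module.End K V ≃ₐ[K] Matrix (Fin (finrank K V)) (Fin (finrank K V)) K := LinearMap.toMatrixAlgEquiv β
  let ρM : G →* Matrix (Fin (finrank K V)) (Fin (finrank K V)) K := (M : Module.End K V →* _).comp ρ
  have hρM : ∀ g, ρM g = M (ρ g) := fun g => rfl
  have hmv : ∀ (f : V →ₗ[K] V) (v : V), M f *ᵥ (β.repr v) = β.repr (f v) := fun f v =>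
    LinearMap.toMatrix_mulVec_repr β β f v
  have hinj : Function.Injective M := M.injective
  have hM : M (pr ρ X) = av ρM X (Nat.card X : K)⁻¹ := by
    rw [pr, av, map_smul, map_sum]
    rfl
  have hfixM : ∀ m : ℕ, (∀ v, ρ (b ^ m) v = v → ∀ x ∈ X, ρ x v = v) →
      ∀ v, ρM (b ^ m) *ᵥ v = v → ∀ x ∈ X, ρM x *ᵥ v = v := by
    intro m hm v hv x hx
    obtain ⟨w, rfl⟩ : ∃ w, ⇑(β.repr w) = v := ⟨β.equivFun.symm v, by
      rw [← Basis.equivFun_apply, LinearEquiv.apply_symm_apply]⟩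
    rw [hρM, hmv] at hv ⊢
    have h5 : ρ (b ^ m) w = w := β.repr.injective (DFunLike.coe_injective hv)
    rw [hm w h5 x hx]
  set e := pr ρ X with he
  have hee : e * e = e := pr_pr ρ hXK
  have hρ1 : ∀ g, ρ g * ρ g⁻¹ = 1 := fun g => by rw [← map_mul, mul_inv_cancel, map_one]
  have hρ2 : ∀ g, ρ g⁻¹ * ρ g = 1 := fun g => by rw [← map_mul, inv_mul_cancel, map_one]
  have hmain := sixty_mat hG ρM X hb hb6 (hfixM 2 h2) (hfixM 3 h3) hgen hM (by
    intro g hg
    set f := ρ g * e * ρ g⁻¹ with hf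
    have hMf : ρM g * M e * ρM g⁻¹ = M f := by rw [hρM, hρM, ← map_mul, ← map_mul]
    rw [hMf] at hg ⊢
    have hcomm : ∀ x ∈ X, ρ x * f = f * ρ x := by
      intro x hx
      have h5 := hg x hx
      rw [hρM, ← map_mul, ← map_mul] at h5
      exact hinj h5
    have hff : f * f = f := by
      calc f * f = ρ g * e * (ρ g⁻¹ * ρ g) * e * ρ g⁻¹ := by rw [hf]; simp only [mul_assoc]
        _ = f := by rw [hρ2, mul_one, mul_assoc (ρ g) e e, hee]
    have hef : e * f = f * e := by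
      rw [he, pr, smul_mul_assoc, Finset.sum_mul, mul_smul_comm, Finset.mul_sum]
      congr 1
      exact Finset.sum_congr rfl fun y hy => hcomm y (Finset.mem_filter.1 hy).2
    -- `W` = the intersection of the fixed space of `X ^ g` with the support of `X`
    let W : Submodule K V := LinearMap.ker (f - 1) ⊓ sp ρ X
    have hW : ∀ w, w ∈ W ↔ f w = w ∧ e w = 0 := by
      intro w
      rw [Submodule.mem_inf, LinearMap.mem_ker, LinearMap.sub_apply, sub_eq_zero, mem_sp_iff ρ hXK]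
      rfl
    have hadj : ∀ B : V →ₗ[K] V →ₗ[K] K, (∀ (g : G) v w, B (ρ g v) (ρ g w) = B v w) → ∀ v w, B (f v) w = B v (f w) := by
      intro B hB v w
      have h5 : ∀ (g : G) v w, B (ρ g v) w = B v (ρ g⁻¹ w) := by
        intro g v w
        have h6 := hB g v (ρ g⁻¹ w)
        have h7 : ρ g (ρ g⁻¹ w) = w := congrArg (fun f : V →ₗ[K] V => f w) (hρ1 g)
        rw [h7] at h6
        exact h6
      show B (ρ g (e (ρ g⁻¹ v))) w = B v (ρ g (e (ρ g⁻¹ w)))
      rw [h5, he, pr_adj ρ B hB, h5, inv_inv]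
    have h5 := hirr W inf_le_right (by
      intro x hx w hw
      rw [hW] at hw ⊢
      refine ⟨?_, ?_⟩
      · have h6 := congrArg (fun f : V →ₗ[K] V => f w) (hcomm x hx)
        have h7 : ρ x (f w) = f (ρ x w) := h6
        rw [← h7, hw.1]
      · have h6 := congrArg (fun f : V →ₗ[K] V => f w) (pr_mul ρ hx)
        have h7 : e (ρ x w) = e w := h6
        rw [h7, hw.2]) (by
      intro B hB hnd w hw h0
      rw [hW] at hw
      refine hnd w fun v => ?_
      have h6 : f (v - e v) - e (f (v - e v)) = f (v - e v) := by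
        have h7 : e (f (v - e v)) = f (e (v - e v)) := congrArg (fun f : V →ₗ[K] V => f (v - e v)) hef
        have h8 : e (e v) = e v := congrArg (fun f : V →ₗ[K] V => f v) hee
        rw [h7, map_sub e, h8, sub_self, map_zero, sub_zero]
      have h7 : f (v - e v) ∈ W := by
        rw [hW]
        refine ⟨congrArg (fun f : V →ₗ[K] V => f (v - e v)) hff, ?_⟩
        have h7 : e (f (v - e v)) = f (e (v - e v)) := congrArg (fun f : V →ₗ[K] V => f (v - e v)) hef
        have h8 : e (e v) = e v := congrArg (fun f : V →ₗ[K] V => f v) hee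
        rw [h7, map_sub e, h8, sub_self, map_zero]
      have h8 := h0 _ h7
      rw [← hadj B hB, hw.1, map_sub] at h8
      have h9 : B w (e v) = 0 := by rw [he, ← pr_adj ρ B hB, ← he, hw.2, map_zero, LinearMap.zero_apply]
      rwa [h9, sub_zero] at h8)
    rw [← map_one M, ← map_sub, ← map_mul, ← map_zero M]
    have hfe : ∀ v, f ((1 - e) v) ∈ W := by
      intro v
      rw [hW]
      refine ⟨congrArg (fun f : V →ₗ[K] V => f ((1 - e) v)) hff, ?_⟩
      have h7 : e (f ((1 - e) v)) = f (e ((1 - e) v)) := congrArg (fun f : V →ₗ[K] V => f ((1 - e) v)) hef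
      have h8 : e (e v) = e v := congrArg (fun f : V →ₗ[K] V => f v) hee
      rw [h7, LinearMap.sub_apply, Module.End.one_apply, map_sub e, h8, sub_self, map_zero]
    rcases h5 with h5 | h5
    · left
      congr 1
      ext v
      have h6 := hfe v
      rw [h5, Submodule.mem_bot] at h6
      exact h6
    · right
      congr 1
      ext v
      have h6 : (1 - e) v ∈ sp ρ X := sub_pr_mem ρ hXK v
      rw [← h5, hW] at h6
      exact h6.1) g⁻¹
  have hMf : ρM g⁻¹ * M e * ρM g⁻¹⁻¹ = M (ρ g⁻¹ * e * ρ g) := by rw [inv_inv, hρM, hρM, ← map_mul, ← map_mul]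
  rw [hMf] at hmain
  have h11 : ∀ v, ρ g (ρ g⁻¹ v) = v := fun v => congrArg (fun f : V →ₗ[K] V => f v) (hρ1 g)
  rcases hmain with h5 | h5
  · left
    have h6 : ρ g⁻¹ * e * ρ g = e := hinj h5
    have h7 : ρ g * e = e * ρ g := by
      calc ρ g * e = ρ g * (ρ g⁻¹ * e * ρ g) := by rw [h6]
        _ = e * ρ g := by rw [← mul_assoc, ← mul_assoc, hρ1, one_mul]
    have h8 : ρ g⁻¹ * e = e * ρ g⁻¹ := by
      calc ρ g⁻¹ * e = ρ g⁻¹ * e * ρ g * ρ g⁻¹ := by rw [mul_assoc, hρ1, mul_one]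
        _ = e * ρ g⁻¹ := by rw [h6]
    have h9 : ∀ v, ρ g (e v) = e (ρ g v) := fun v => congrArg (fun f : V →ₗ[K] V => f v) h7
    have h10 : ∀ v, ρ g⁻¹ (e v) = e (ρ g⁻¹ v) := fun v => congrArg (fun f : V →ₗ[K] V => f v) h8
    constructor
    · refine le_antisymm ?_ ?_
      · rintro _ ⟨v, hv, rfl⟩
        rw [mem_sp_iff ρ hXK, ← he, ← h9, (mem_sp_iff ρ hXK).1 hv, map_zero]
      · intro v hv
        refine ⟨ρ g⁻¹ v, ?_, h11 v⟩
        rw [SetLike.mem_coe, mem_sp_iff ρ hXK, ← he, ← h10, (mem_sp_iff ρ hXK).1 hv, map_zero]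
    · refine le_antisymm ?_ ?_
      · rintro _ ⟨v, hv, rfl⟩
        rw [mem_fx_iff ρ hXK, ← he, ← h9, (mem_fx_iff ρ hXK).1 hv]
      · intro v hv
        refine ⟨ρ g⁻¹ v, ?_, h11 v⟩
        rw [SetLike.mem_coe, mem_fx_iff ρ hXK, ← he, ← h10, (mem_fx_iff ρ hXK).1 hv]
  · right
    rw [← map_one M, ← map_sub, ← map_sub, ← map_mul, ← map_zero M] at h5
    have h6 : (1 - e) * (1 - ρ g⁻¹ * e * ρ g) = 0 := hinj h5
    intro v hv x hx
    -- `(1 - e ^ g) (1 - e) = 0`
    have h7 : ρ g * ((1 - e) * (1 - ρ g⁻¹ * e * ρ g)) * ρ g⁻¹ = (1 - ρ g * e * ρ g⁻¹) * (1 - e) := by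
      have h8 : ρ g * (1 - ρ g⁻¹ * e * ρ g) * ρ g⁻¹ = 1 - e := by
        rw [mul_sub, mul_one, sub_mul, hρ1]
        congr 1
        calc ρ g * (ρ g⁻¹ * e * ρ g) * ρ g⁻¹ = (ρ g * ρ g⁻¹) * e * (ρ g * ρ g⁻¹) := by simp only [mul_assoc]
          _ = e := by rw [hρ1, one_mul, mul_one]
      have h9 : ρ g * (1 - e) * ρ g⁻¹ = 1 - ρ g * e * ρ g⁻¹ := by
        rw [mul_sub, mul_one, sub_mul, hρ1]
      calc ρ g * ((1 - e) * (1 - ρ g⁻¹ * e * ρ g)) * ρ g⁻¹ =
          ρ g * (1 - e) * 1 * (1 - ρ g⁻¹ * e * ρ g) * ρ g⁻¹ := by simp only [mul_assoc, one_mul]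
        _ = ρ g * (1 - e) * ρ g⁻¹ * (ρ g * (1 - ρ g⁻¹ * e * ρ g) * ρ g⁻¹) := by
          rw [← hρ2 g]
          simp only [mul_assoc]
        _ = (1 - ρ g * e * ρ g⁻¹) * (1 - e) := by rw [h8, h9]
    rw [h6, mul_zero, zero_mul] at h7
    have h8 : (1 - e) v = v := by
      rw [LinearMap.sub_apply, he, pr_sp ρ hv, sub_zero]
      rfl
    have h9 : (1 - ρ g * e * ρ g⁻¹) ((1 - e) v) = 0 := (congrArg (fun f : V →ₗ[K] V => f v) h7).symm
    rw [h8, LinearMap.sub_apply, sub_eq_zero] at h9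
    have h10 : v = ρ g (e (ρ g⁻¹ v)) := h9
    have h12 : ρ (g * x * g⁻¹) v = ρ g (ρ x (ρ g⁻¹ v)) := by
      rw [map_mul, map_mul]
      rfl
    have h13 : ρ g⁻¹ v = e (ρ g⁻¹ v) := by
      conv_lhs => rw [h10]
      exact congrArg (fun f : V →ₗ[K] V => f (e (ρ g⁻¹ v))) (hρ2 g)
    rw [h12, h13, show ρ x (e (ρ g⁻¹ v)) = e (ρ g⁻¹ v) from pr_mem ρ _ x hx, ← h10]

/-- If the fixed space is small then it is invariant. -/
theorem sixty_big [Finite K] [FiniteDimensional K V] [Finite G] (hG : (Nat.card G : K) ≠ 0)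
    (ρ : Representation K G V) (X : Subgroup G) {b : G} (hb : b ∈ X) (hb6 : orderOf b = 6)
    (h2 : ∀ v, ρ (b ^ 2) v = v → ∀ x ∈ X, ρ x v = v)
    (h3 : ∀ v, ρ (b ^ 3) v = v → ∀ x ∈ X, ρ x v = v)
    (hgen : X ≤ Subgroup.closure {y | ∃ x ∈ X, y = x * b * x⁻¹})
    (hirr : ∀ W : Submodule K V, W ≤ sp ρ X → (∀ x ∈ X, ∀ w ∈ W, ρ x w ∈ W) → W = ⊥ ∨ W = sp ρ X)
    (hdim : 2 * finrank K (fx ρ X) < finrank K V) (g : G) :
    (sp ρ X).map (ρ g) = sp ρ X ∧ (fx ρ X).map (ρ g) = fx ρ X := by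
  classical
  have := Fintype.ofFinite G
  have hXK : (Nat.card X : K) ≠ 0 := natCast_ne_zero_of_dvd (Subgroup.card_subgroup_dvd_card X) hG
  refine (sixty_mod hG ρ X hb hb6 h2 h3 hgen (fun W h h' _ => hirr W h h') g).resolve_right fun h => ?_
  have h1 : fx ρ X ⊔ sp ρ X = ⊤ := by
    rw [eq_top_iff]
    intro v _
    have h5 : v = pr ρ X v + (v - pr ρ X v) := by abel
    rw [h5]
    exact Submodule.add_mem_sup (pr_mem ρ v) (sub_pr_mem ρ hXK v)
  have h2 : sp ρ X ≤ (fx ρ X).map (ρ g) := by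
    intro v hv
    refine ⟨ρ g⁻¹ v, ?_, ?_⟩
    · intro x hx
      have h5 := h v hv x hx
      have h6 : ρ (g * x * g⁻¹) v = ρ g (ρ x (ρ g⁻¹ v)) := by
        rw [map_mul, map_mul]
        rfl
      rw [h6] at h5
      have h7 : ρ g⁻¹ (ρ g (ρ x (ρ g⁻¹ v))) = ρ x (ρ g⁻¹ v) := by
        have : ρ g⁻¹ * ρ g = 1 := by rw [← map_mul, inv_mul_cancel, map_one]
        exact congrArg (fun f : V →ₗ[K] V => f (ρ x (ρ g⁻¹ v))) this
      rw [← h7, h5]
    · have : ρ g * ρ g⁻¹ = 1 := by rw [← map_mul, mul_inv_cancel, map_one]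
      exact congrArg (fun f : V →ₗ[K] V => f v) this
  have h3 : finrank K (sp ρ X) ≤ finrank K (fx ρ X) :=
    (Submodule.finrank_mono h2).trans (Submodule.finrank_map_le _ _)
  have h4 : finrank K V ≤ finrank K (fx ρ X) + finrank K (sp ρ X) := by
    rw [← finrank_top K V, ← h1]
    exact Submodule.finrank_add_le_finrank_add_finrank _ _
  omega

end Cfsg.Agent.H750.RV
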